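import Groth.Agent.AssPtX.Push
import Groth.Agent.GeomField.Components
import Mathlib.RingTheory.Ideal.GoingDown
import Mathlib.RingTheory.LocalRing.Module
import Mathlib.FieldTheory.IntermediateField.Adjoin.Basic
import Mathlib.RingTheory.AlgebraicIndependent.TranscendenceBasis

/-!
# Weakly associated primes and extensions of the base field
-/

universe u

open scoped TensorProduct

set_option linter.style.haveILetI false
set_option backward.isDefEq.respectTransparency false
set_option backward.isDefEq.respectTransparency.types false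

namespace Groth.Agent.AssPtX

open Groth.Agent

section Free

variable {C B : Type u} [CommRing C] [CommRing B] [Algebra C B] [Module.Free C B] {M : Type u} [AddCommGroup M]
  [Module C M]

/-- Annihilators of elements extended along a free algebra. -/
theorem annEl_one_tmul (x : M) :
    WeakAss.annEl B ((1 : B) ⊗ₜ[C] x) = (WeakAss.annEl C x).map (algebraMap C B) := by
  classical
  refine le_antisymm (fun b hb => ?_) (Ideal.map_le_iff_le_comap.2 fun c hc => ?_)
  · let e := Module.Free.chooseBasis C B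
    rw [WeakAss.mem_annEl, TensorProduct.smul_tmul', smul_eq_mul, mul_one] at hb
    have h0 : ∀ i, e.repr b i • x = 0 := fun i => by
      rw [← TensorProduct.equivFinsuppOfBasisLeft_apply_tmul_apply e b x i, hb, map_zero, Finsupp.zero_apply]
    rw [← e.linearCombination_repr b, Finsupp.linearCombination_apply]
    refine Ideal.sum_mem _ fun i _ => ?_
    dsimp only
    rw [Algebra.smul_def]
    exact Ideal.mul_mem_right _ _ (Ideal.mem_map_of_mem _ (WeakAss.mem_annEl.2 (h0 i)))
  · rw [Ideal.mem_comap, WeakAss.mem_annEl, algebraMap_smul, ← TensorProduct.tmul_smul, WeakAss.mem_annEl.1 hc,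
      TensorProduct.tmul_zero]

/-- Descent along a free algebra of a prime minimal over the annihilator of an extended element. -/
theorem comap_mem_weakAss_of_one_tmul {x : M} {q : Ideal B}
    (hq : q ∈ (WeakAss.annEl B ((1 : B) ⊗ₜ[C] x)).minimalPrimes) :
    q.comap (algebraMap C B) ∈ FlatCA.weakAss C M := by
  rw [annEl_one_tmul] at hq
  haveI := hq.1.1
  refine WeakAss.mem_weakAss_iff.2 ⟨x, ⟨inferInstance, Ideal.map_le_iff_le_comap.1 hq.1.2⟩, ?_⟩
  rintro P ⟨hP, hxP⟩ hle
  haveI := hP
  haveI : q.LiesOver (q.comap (algebraMap C B)) := ⟨rfl⟩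
  obtain ⟨Q, hQq, hQ, hQP⟩ :=
    Ideal.exists_ideal_le_liesOver_of_le (p := P) (q := q.comap (algebraMap C B)) q hle
  have h1 : q ≤ Q := hq.2 ⟨hQ, Ideal.map_le_iff_le_comap.2 (hxP.trans hQP.over.le)⟩ hQq
  intro c hc
  rw [hQP.over]
  exact h1 hc

/-- Coefficients killed modulo a prime with integral fibre. -/
theorem exists_notMem_smul_eq_zero (p : Ideal C) [p.IsPrime] [IsDomain (B ⊗[C] p.ResidueField)] {s : B}
    (hs : s ∉ p.map (algebraMap C B)) {w : B ⊗[C] M} (hw : s • w = 0) : ∃ t ∉ p, t • w = 0 := by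
  classical
  let e := Module.Free.chooseBasis C B
  let E := TensorProduct.equivFinsuppOfBasisLeft (N := M) e
  let N := Submodule.span C (↑((E w).support.image (E w)) : Set M)
  haveI : Module.Finite C N := Module.Finite.of_fg ⟨_, rfl⟩
  have hmem : ∀ i, E w i ∈ N := fun i => by
    by_cases h : i ∈ (E w).support
    · exact Submodule.subset_span (Finset.mem_image_of_mem _ h)
    · rw [Finsupp.notMem_support_iff.1 h]; exact N.zero_mem
  let g : Module.Free.ChooseBasisIndex C B →₀ N :=
    Finsupp.onFinset (E w).support (fun i => ⟨E w i, hmem i⟩) fun i hi => by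
      rw [Finsupp.mem_support_iff]
      exact fun h => hi (Subtype.ext h)
  let wN : B ⊗[C] N := (TensorProduct.equivFinsuppOfBasisLeft e).symm g
  let ι : B ⊗[C] N →ₗ[B] B ⊗[C] M := TensorProduct.AlgebraTensorModule.map LinearMap.id N.subtype
  have hcoef : ∀ (v : B ⊗[C] N) i, E (ι v) i = ((TensorProduct.equivFinsuppOfBasisLeft e v i : N) : M) := fun v i => by
    induction v with
    | zero => simp
    | tmul b n => simp [ι, E, TensorProduct.equivFinsuppOfBasisLeft_apply_tmul_apply]
    | add a b ha hb => simp [ha, hb]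
  have hwN : TensorProduct.equivFinsuppOfBasisLeft e wN = g := LinearEquiv.apply_symm_apply _ g
  have hιw : ι wN = w := E.injective (Finsupp.ext fun i => by rw [hcoef, hwN]; rfl)
  have hι : Function.Injective ι := fun a b h => (TensorProduct.equivFinsuppOfBasisLeft e).injective
    (Finsupp.ext fun i => Subtype.ext (by rw [← hcoef, ← hcoef, h]))
  by_contra hne
  push Not at hne
  have hsupp : (⟨p, inferInstance⟩ : PrimeSpectrum C) ∈ Module.support C N := by
    rw [Module.support_eq_zeroLocus]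
    intro t ht
    by_contra htp
    refine hne t htp (E.injective (Finsupp.ext fun i => ?_))
    rw [map_smul, Finsupp.smul_apply, map_zero, Finsupp.zero_apply]
    exact congrArg Subtype.val (Module.mem_annihilator.1 ht ⟨E w i, hmem i⟩)
  rw [Module.mem_support_iff_nontrivial_residueField_tensorProduct] at hsupp
  change Nontrivial (p.ResidueField ⊗[C] N) at hsupp
  obtain ⟨v, hv⟩ := exists_ne (0 : p.ResidueField ⊗[C] N)
  obtain ⟨ψ, hψ⟩ : ∃ ψ : Module.Dual p.ResidueField (p.ResidueField ⊗[C] N), ψ v ≠ 0 := by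
    by_contra h
    push Not at h
    exact hv ((Module.forall_dual_apply_eq_zero_iff p.ResidueField v).1 h)
  let φ : N →ₗ[C] p.ResidueField := (ψ.restrictScalars C) ∘ₗ (TensorProduct.mk C p.ResidueField N 1)
  let Φ : B ⊗[C] N →ₗ[B] B ⊗[C] p.ResidueField := TensorProduct.AlgebraTensorModule.map LinearMap.id φ
  have hsw : s • wN = 0 := hι (by rw [map_smul, hιw, hw, map_zero])
  have hΦ : (s ⊗ₜ[C] (1 : p.ResidueField)) * Φ wN = 0 := by
    rw [show (s ⊗ₜ[C] (1 : p.ResidueField)) = algebraMap B _ s from rfl, ← Algebra.smul_def, ← map_smul, hsw,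
      map_zero]
  have hs0 : (s ⊗ₜ[C] (1 : p.ResidueField)) ≠ 0 := by
    intro h
    refine hs ?_
    rw [← e.linearCombination_repr s, Finsupp.linearCombination_apply]
    refine Ideal.sum_mem _ fun i _ => ?_
    dsimp only
    rw [Algebra.smul_def]
    refine Ideal.mul_mem_right _ _ (Ideal.mem_map_of_mem _ (Ideal.algebraMap_residueField_eq_zero.1 ?_))
    have h1 : TensorProduct.equivFinsuppOfBasisLeft e (s ⊗ₜ[C] (1 : p.ResidueField)) i = 0 := by simp [h]
    rw [TensorProduct.equivFinsuppOfBasisLeft_apply_tmul_apply] at h1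
    rwa [Algebra.algebraMap_eq_smul_one]
  have hΦ0 : Φ wN = 0 := (mul_eq_zero.1 hΦ).resolve_left hs0
  have hφcoef : ∀ (v : B ⊗[C] N) i, TensorProduct.equivFinsuppOfBasisLeft e (Φ v) i =
      φ (TensorProduct.equivFinsuppOfBasisLeft e v i) := fun v i => by
    induction v with
    | zero => simp
    | tmul b n => simp [Φ, TensorProduct.equivFinsuppOfBasisLeft_apply_tmul_apply]
    | add a b ha hb => simp [ha, hb]
  have hφg : ∀ i, φ (g i) = 0 := fun i => by
    have := hφcoef wN i
    rw [hΦ0, map_zero, Finsupp.zero_apply] at this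
    rw [this, hwN]
  have hφ : ∀ n : N, φ n = 0 := by
    rintro ⟨n, hn⟩
    induction hn using Submodule.span_induction with
    | mem m hm =>
      obtain ⟨i, _, rfl⟩ := Finset.mem_image.1 hm
      exact (congrArg φ (Subtype.ext rfl : _ = g i)).trans (hφg i)
    | zero => exact map_zero φ
    | add a b ha hb h1 h2 => exact (map_add φ ⟨a, ha⟩ ⟨b, hb⟩).trans (by rw [h1, h2, add_zero])
    | smul c a ha h1 => exact (map_smul φ c ⟨a, ha⟩).trans (by rw [h1, smul_zero])
  refine hψ ?_
  have hall : ∀ u : p.ResidueField ⊗[C] N, ψ u = 0 := fun u => by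
    induction u with
    | zero => exact map_zero ψ
    | tmul a n =>
      rw [show a ⊗ₜ[C] n = a • ((1 : p.ResidueField) ⊗ₜ[C] n) by rw [TensorProduct.smul_tmul', smul_eq_mul, mul_one],
        map_smul]
      exact (congrArg (a • ·) (hφ n)).trans (smul_zero a)
    | add a b ha hb => rw [map_add, ha, hb, add_zero]
  exact hall v

/-- The contraction of a weakly associated prime along a free algebra with integral fibres. -/
theorem comap_mem_weakAss_of_isDomain {q : Ideal B} (hq : q ∈ FlatCA.weakAss B (B ⊗[C] M))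
    (hdom : ∀ (p : Ideal C) [p.IsPrime], IsDomain (B ⊗[C] p.ResidueField)) :
    q.comap (algebraMap C B) ∈ FlatCA.weakAss C M := by
  classical
  obtain ⟨z, hz⟩ := WeakAss.mem_weakAss_iff.1 hq
  haveI := hz.1.1
  haveI := hdom (q.comap (algebraMap C B))
  have hkey : ∀ f ∈ q.comap (algebraMap C B), ∃ t ∉ q.comap (algebraMap C B), ∃ n : ℕ, (t * f ^ n) • z = 0 := by
    intro f hf
    obtain ⟨s, hs, n, hn⟩ := WeakAss.exists_mul_pow_mem hz hf
    have h1 : s • (f ^ n • z) = 0 := by
      rw [← algebraMap_smul B (f ^ n) z, map_pow, smul_smul]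
      exact WeakAss.mem_annEl.1 hn
    obtain ⟨t, ht, ht0⟩ := exists_notMem_smul_eq_zero (q.comap (algebraMap C B))
      (fun h => hs (Ideal.map_comap_le h)) h1
    exact ⟨t, ht, n, by rw [mul_smul]; exact ht0⟩
  let e := Module.Free.chooseBasis C B
  let E := TensorProduct.equivFinsuppOfBasisLeft (N := M) e
  obtain ⟨i, hi⟩ : ∃ i, WeakAss.annEl C (E z i) ≤ q.comap (algebraMap C B) := by
    by_contra hne
    push Not at hne
    choose t ht htp using fun i => SetLike.not_le_iff_exists.1 (hne i)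
    have h0 : (∏ i ∈ (E z).support, t i) • z = 0 := by
      refine E.injective (Finsupp.ext fun i => ?_)
      rw [map_smul, Finsupp.smul_apply, map_zero, Finsupp.zero_apply]
      by_cases hi : i ∈ (E z).support
      · rw [← Finset.prod_erase_mul _ _ hi, mul_smul, WeakAss.mem_annEl.1 (ht i), smul_zero]
      · rw [Finsupp.notMem_support_iff.1 hi, smul_zero]
    have hpr : (∏ i ∈ (E z).support, t i) ∈ q.comap (algebraMap C B) :=
      hz.1.2 (WeakAss.mem_annEl.2 (by rw [algebraMap_smul]; exact h0))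
    obtain ⟨i, _, hi⟩ := (inferInstance : (q.comap (algebraMap C B)).IsPrime).prod_mem_iff.1 hpr
    exact htp i hi
  refine WeakAss.mem_weakAss_iff.2 ⟨E z i, ⟨inferInstance, hi⟩, ?_⟩
  rintro P ⟨hP, hzP⟩ hle f hf
  obtain ⟨t, ht, n, htn⟩ := hkey f hf
  have h1 : t * f ^ n ∈ P := hzP (WeakAss.mem_annEl.2 (by
    rw [← Finsupp.smul_apply, ← map_smul, htn, map_zero, Finsupp.zero_apply]))
  exact hP.mem_of_pow_mem n ((hP.mem_or_mem h1).resolve_left fun h => ht (hle h))

/-- The contraction of a weakly associated prime along a finite free algebra. -/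
theorem comap_mem_weakAss_of_finite_free [Module.Finite C B] {q : Ideal B}
    (hq : q ∈ FlatCA.weakAss B (B ⊗[C] M)) : q.comap (algebraMap C B) ∈ FlatCA.weakAss C M := by
  classical
  obtain ⟨z, hz⟩ := WeakAss.mem_weakAss_iff.1 (comap_mem_weakAss_of_finite (A := C) hq)
  let e := Module.Free.chooseBasis C B
  let E := TensorProduct.equivFinsuppOfBasisLeft (N := M) e
  have hinf : Finset.univ.inf (fun i => WeakAss.annEl C (E z i)) ≤ q.comap (algebraMap C B) := fun c hc =>
    hz.1.2 (WeakAss.mem_annEl.2 (E.injective (Finsupp.ext fun i => by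
      rw [map_smul, Finsupp.smul_apply, map_zero, Finsupp.zero_apply]
      exact WeakAss.mem_annEl.1 ((Finset.inf_le (Finset.mem_univ i) :
        Finset.univ.inf (fun i => WeakAss.annEl C (E z i)) ≤ _) hc))))
  obtain ⟨i, -, hi⟩ := (Ideal.IsPrime.inf_le' hz.1.1).1 hinf
  refine WeakAss.mem_weakAss_iff.2 ⟨E z i, ⟨hz.1.1, hi⟩, ?_⟩
  rintro P ⟨hP, hzP⟩ hle
  refine hz.2 ⟨hP, fun c hc => hzP (WeakAss.mem_annEl.2 ?_)⟩ hle
  rw [← Finsupp.smul_apply, ← map_smul, WeakAss.mem_annEl.1 hc, map_zero, Finsupp.zero_apply]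

end Free

attribute [local instance] Algebra.TensorProduct.rightAlgebra

theorem free_right (R K C : Type u) [CommRing R] [CommRing K] [CommRing C] [Algebra R K] [Algebra R C]
    [Module.Free R K] : Module.Free C (K ⊗[R] C) := by
  let σ : C ⊗[R] K ≃ₐ[C] K ⊗[R] C :=
    AlgEquiv.ofRingEquiv (f := (Algebra.TensorProduct.comm R C K).toRingEquiv) fun c => by
      simp [Algebra.TensorProduct.right_algebraMap_apply, Algebra.TensorProduct.algebraMap_apply]
  exact Module.Free.of_equiv σ.toLinearEquiv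

theorem finite_right (R K C : Type u) [CommRing R] [CommRing K] [CommRing C] [Algebra R K] [Algebra R C]
    [Module.Finite R K] : Module.Finite C (K ⊗[R] C) := by
  let σ : C ⊗[R] K ≃ₐ[C] K ⊗[R] C :=
    AlgEquiv.ofRingEquiv (f := (Algebra.TensorProduct.comm R C K).toRingEquiv) fun c => by
      simp [Algebra.TensorProduct.right_algebraMap_apply, Algebra.TensorProduct.algebraMap_apply]
  exact Module.Finite.equiv σ.toLinearEquiv

/-- Transport along an isomorphism of algebras. -/
theorem mem_weakAss_baseChange_congr {C B D : Type u} [CommRing C] [CommRing B] [CommRing D] [Algebra C B]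
    [Algebra C D] (e : D ≃ₐ[C] B) {M : Type u} [AddCommGroup M] [Module C M] {q : Ideal B}
    (hq : q ∈ FlatCA.weakAss B (B ⊗[C] M)) :
    q.comap e.toRingEquiv.toRingHom ∈ FlatCA.weakAss D (D ⊗[C] M) := by
  let E : D ⊗[C] M ≃ₗ[C] B ⊗[C] M := TensorProduct.congr e.toLinearEquiv (LinearEquiv.refl C M)
  refine (mem_weakAss_equiv e.toRingEquiv E.toAddEquiv (fun r m => ?_) q).1 hq
  show E (r • m) = e r • E m
  induction m with
  | zero => simp
  | tmul d m => simp [E, TensorProduct.smul_tmul']
  | add a b ha hb => rw [smul_add, map_add, ha, hb, map_add, smul_add]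

theorem comap_mem_weakAss_step {R L K C : Type u} [Field R] [Field L] [Field K] [Algebra R L] [Algebra R K]
    [Algebra L K] [IsScalarTower R L K] [Module.Finite R L] [CommRing C] [Algebra R C] {M : Type u} [AddCommGroup M]
    [Module C M] {q : Ideal (K ⊗[R] C)} {n : ℕ} (l : Fin n → L) (m : Fin n → M)
    (hq : q ∈ (WeakAss.annEl (K ⊗[R] C)
      (∑ i, (algebraMap L K (l i) ⊗ₜ[R] (1 : C)) ⊗ₜ[C] m i)).minimalPrimes) :
    q.comap (algebraMap C (K ⊗[R] C)) ∈ FlatCA.weakAss C M := by
  let BL := L ⊗[R] C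
  let D := K ⊗[L] BL
  letI : Algebra C D := ((algebraMap BL D).comp (algebraMap C BL)).toAlgebra
  haveI : IsScalarTower C BL D := IsScalarTower.of_algebraMap_eq fun _ => rfl
  haveI : Module.Free BL D := free_right L K BL
  haveI : Module.Free C BL := free_right R L C
  haveI : Module.Finite C BL := finite_right R L C
  let σ₀ : D ≃ₐ[K] K ⊗[R] C := Algebra.TensorProduct.cancelBaseChange R L K K C
  have hσ₀ : ∀ (a : L) (c : C), σ₀ ((1 : K) ⊗ₜ (a ⊗ₜ c)) = algebraMap L K a ⊗ₜ c := fun a c => by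
    refine (Algebra.TensorProduct.cancelBaseChange_tmul R L K K C (1 : K) a c).trans ?_
    rw [Algebra.algebraMap_eq_smul_one]
  let σ : D ≃ₐ[C] K ⊗[R] C := AlgEquiv.ofRingEquiv (f := σ₀.toRingEquiv) fun c =>
    (hσ₀ 1 c).trans (by rw [map_one]; rfl)
  let Θ : D ⊗[BL] (BL ⊗[C] M) ≃+ (K ⊗[R] C) ⊗[C] M :=
    (TensorProduct.AlgebraTensorModule.cancelBaseChange C BL D D M).toAddEquiv.trans
      (TensorProduct.congr σ.toLinearEquiv (LinearEquiv.refl C M)).toAddEquiv
  have hΘsmul : ∀ (r : D) w, Θ (r • w) = σ r • Θ w := fun r w => by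
    show TensorProduct.congr _ _ (TensorProduct.AlgebraTensorModule.cancelBaseChange C BL D D M (r • w)) =
      σ r • TensorProduct.congr σ.toLinearEquiv (LinearEquiv.refl C M)
        (TensorProduct.AlgebraTensorModule.cancelBaseChange C BL D D M w)
    rw [map_smul]
    induction TensorProduct.AlgebraTensorModule.cancelBaseChange C BL D D M w with
    | zero => simp
    | tmul d m => simp [TensorProduct.smul_tmul']
    | add a b ha hb => rw [smul_add, map_add, ha, hb, map_add, smul_add]
  let x : BL ⊗[C] M := ∑ i, (l i ⊗ₜ[R] (1 : C)) ⊗ₜ[C] m i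
  have hΘ : Θ ((1 : D) ⊗ₜ[BL] x) = ∑ i, (algebraMap L K (l i) ⊗ₜ[R] (1 : C)) ⊗ₜ[C] m i := by
    rw [TensorProduct.tmul_sum, map_sum]
    refine Finset.sum_congr rfl fun i _ => ?_
    refine (congrArg (TensorProduct.congr σ.toLinearEquiv (LinearEquiv.refl C M))
      (TensorProduct.AlgebraTensorModule.cancelBaseChange_tmul C BL D (1 : D) (m i) (l i ⊗ₜ[R] (1 : C)))).trans ?_
    rw [TensorProduct.congr_tmul, Algebra.smul_def, mul_one]
    exact congrArg (· ⊗ₜ[C] m i) (hσ₀ (l i) 1)
  have hann : WeakAss.annEl D ((1 : D) ⊗ₜ[BL] x) = (WeakAss.annEl (K ⊗[R] C)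
      (∑ i, (algebraMap L K (l i) ⊗ₜ[R] (1 : C)) ⊗ₜ[C] m i)).comap σ.toRingEquiv.toRingHom := by
    ext r
    rw [Ideal.mem_comap, WeakAss.mem_annEl, WeakAss.mem_annEl]
    show _ ↔ σ r • _ = 0
    rw [← hΘ, ← hΘsmul, AddEquiv.map_eq_zero_iff]
  have h1 : q.comap σ.toRingEquiv.toRingHom ∈ (WeakAss.annEl D ((1 : D) ⊗ₜ[BL] x)).minimalPrimes := by
    rw [hann, Ideal.comap_minimalPrimes_eq_of_surjective σ.toRingEquiv.surjective]
    exact ⟨q, hq, rfl⟩
  have h2 := comap_mem_weakAss_of_finite_free (comap_mem_weakAss_of_one_tmul h1)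
  rw [Ideal.comap_comap, Ideal.comap_comap] at h2
  convert h2 using 2
  ext c
  exact (σ.commutes c).symm

theorem comap_mem_weakAss_of_algebraic {R K C : Type u} [Field R] [Field K] [Algebra R K]
    [Algebra.IsAlgebraic R K] [CommRing C] [Algebra R C] {M : Type u} [AddCommGroup M] [Module C M]
    {q : Ideal (K ⊗[R] C)} (hq : q ∈ FlatCA.weakAss (K ⊗[R] C) ((K ⊗[R] C) ⊗[C] M)) :
    q.comap (algebraMap C (K ⊗[R] C)) ∈ FlatCA.weakAss C M := by
  classical
  obtain ⟨z, hz⟩ := WeakAss.mem_weakAss_iff.1 hq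
  have hgen : ∃ (n : ℕ) (a : Fin n → K) (m : Fin n → M), z = ∑ i, (a i ⊗ₜ[R] (1 : C)) ⊗ₜ[C] m i := by
    clear hz
    induction z with
    | zero => exact ⟨0, Fin.elim0, Fin.elim0, by simp⟩
    | tmul b m =>
      induction b with
      | zero => exact ⟨0, Fin.elim0, Fin.elim0, by simp⟩
      | tmul a c =>
        refine ⟨1, fun _ => a, fun _ => c • m, ?_⟩
        rw [Fin.sum_univ_one, ← TensorProduct.smul_tmul, Algebra.smul_def,
          Algebra.TensorProduct.right_algebraMap_apply, Algebra.TensorProduct.tmul_mul_tmul, one_mul, mul_one]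
      | add b b' hb hb' =>
        obtain ⟨n, a, m₁, h1⟩ := hb
        obtain ⟨n', a', m₂, h2⟩ := hb'
        refine ⟨n + n', Fin.append a a', Fin.append m₁ m₂, ?_⟩
        rw [TensorProduct.add_tmul, h1, h2, Fin.sum_univ_add]
        simp
    | add z z' hz hz' =>
      obtain ⟨n, a, m₁, h1⟩ := hz
      obtain ⟨n', a', m₂, h2⟩ := hz'
      refine ⟨n + n', Fin.append a a', Fin.append m₁ m₂, ?_⟩
      rw [h1, h2, Fin.sum_univ_add]
      simp
  obtain ⟨n, a, m, rfl⟩ := hgen
  let L := IntermediateField.adjoin R (Set.range a)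
  haveI := Set.finite_range a |>.to_subtype
  haveI : FiniteDimensional R L :=
    IntermediateField.finiteDimensional_adjoin fun a _ => Algebra.IsIntegral.isIntegral a
  exact comap_mem_weakAss_step (L := L)
    (fun i => ⟨a i, IntermediateField.subset_adjoin R _ (Set.mem_range_self i)⟩) m hz

theorem comap_mem_weakAss_purelyTransc {k F K A : Type u} [Field k] [Field F] [Field K] [Algebra k F] [Algebra k K]
    [Algebra F K] [IsScalarTower k F K] [Algebra.IsAlgebraic F K] [CommRing A] [Algebra k A]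
    (hF : ∀ (κ : Type u) [Field κ] [Algebra k κ], IsDomain (κ ⊗[k] F))
    {M : Type u} [AddCommGroup M] [Module A M] {q : Ideal (K ⊗[k] A)}
    (hq : q ∈ FlatCA.weakAss (K ⊗[k] A) ((K ⊗[k] A) ⊗[A] M)) :
    q.comap (algebraMap A (K ⊗[k] A)) ∈ FlatCA.weakAss A M := by
  let C := F ⊗[k] A
  let B := K ⊗[F] C
  haveI : Module.Free A C := free_right k F A
  letI : Algebra A B := ((algebraMap C B).comp (algebraMap A C)).toAlgebra
  haveI : IsScalarTower A C B := IsScalarTower.of_algebraMap_eq fun _ => rfl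
  let σ₀ : B ≃ₐ[K] K ⊗[k] A := Algebra.TensorProduct.cancelBaseChange k F K K A
  let σ : B ≃ₐ[A] K ⊗[k] A := AlgEquiv.ofRingEquiv (f := σ₀.toRingEquiv) fun a => by
    refine (Algebra.TensorProduct.cancelBaseChange_tmul k F K K A (1 : K) (1 : F) a).trans ?_
    rw [one_smul]
    rfl
  have h0 := mem_weakAss_baseChange_congr σ hq
  let Θ : B ⊗[C] (C ⊗[A] M) ≃ₗ[B] B ⊗[A] M := TensorProduct.AlgebraTensorModule.cancelBaseChange A C B B M
  have h1 : q.comap σ.toRingEquiv.toRingHom ∈ FlatCA.weakAss B (B ⊗[C] (C ⊗[A] M)) :=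
    WeakAss.weakAss_subset_of_injective Θ.symm.toLinearMap Θ.symm.injective h0
  have h2 := comap_mem_weakAss_of_algebraic h1
  have h3 := comap_mem_weakAss_of_isDomain h2 fun p _ => by
    let ε : C ≃ₐ[A] A ⊗[k] F :=
      AlgEquiv.ofRingEquiv (f := (Algebra.TensorProduct.comm k F A).toRingEquiv) fun a => by
        show Algebra.TensorProduct.comm k F A ((1 : F) ⊗ₜ a) = a ⊗ₜ 1
        exact Algebra.TensorProduct.comm_tmul ..
    let τ : C ⊗[A] p.ResidueField ≃+* p.ResidueField ⊗[k] F :=
      ((Algebra.TensorProduct.comm A C p.ResidueField).toRingEquiv.trans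
        (Algebra.TensorProduct.congr (AlgEquiv.refl (R := A) (A₁ := p.ResidueField)) ε).toRingEquiv).trans
        (Algebra.TensorProduct.cancelBaseChange k A p.ResidueField p.ResidueField F).toRingEquiv
    haveI := hF p.ResidueField
    exact τ.toMulEquiv.isDomain
  rw [Ideal.comap_comap, Ideal.comap_comap] at h3
  convert h3 using 2
  ext a
  exact (σ.commutes a).symm

/-- The contraction of a weakly associated prime along an extension of the base field. -/
theorem comap_mem_weakAss_fieldExt {k K A : Type u} [Field k] [Field K] [Algebra k K] [CommRing A] [Algebra k A]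
    {M : Type u} [AddCommGroup M] [Module A M] {q : Ideal (K ⊗[k] A)}
    (hq : q ∈ FlatCA.weakAss (K ⊗[k] A) ((K ⊗[k] A) ⊗[A] M)) :
    q.comap (algebraMap A (K ⊗[k] A)) ∈ FlatCA.weakAss A M := by
  obtain ⟨s, hs⟩ := exists_isTranscendenceBasis k K
  let F := IntermediateField.adjoin k (Set.range (Subtype.val : s → K))
  haveI : Algebra.IsAlgebraic F K := hs.isAlgebraic_field
  refine comap_mem_weakAss_purelyTransc (F := F) (fun κ _ _ => ?_) hq
  let ρ : κ ⊗[k] F ≃ₐ[k] FractionRing (MvPolynomial s k) ⊗[k] κ :=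
    (Algebra.TensorProduct.comm k _ _).trans
      (Algebra.TensorProduct.congr hs.1.aevalEquivField.symm AlgEquiv.refl)
  haveI := GeomField.isDomain_tensor_fractionRing (k := k) κ s
  exact ρ.toMulEquiv.isDomain

end Groth.Agent.AssPtX
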