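import Groth.Agent.AssPtX.Noeth
import Mathlib.AlgebraicGeometry.Morphisms.Finite
import Mathlib.RingTheory.QuasiFinite.Basic

/-!
# Weakly associated points of pushforwards
-/

universe u

open CategoryTheory AlgebraicGeometry TopologicalSpace Opposite

set_option backward.isDefEq.respectTransparency false
set_option backward.isDefEq.respectTransparency.types false

namespace Groth.Agent.AssPtX

open Groth.Agent

/-- The contraction of a weakly associated prime along a finite ring map is weakly associated to the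
module of restricted scalars. -/
theorem comap_mem_weakAss_of_finite {A B : Type u} [CommRing A] [CommRing B] [Algebra A B] [Module.Finite A B]
    {M : Type u} [AddCommGroup M] [Module A M] [Module B M] [IsScalarTower A B M] {q : Ideal B}
    (hq : q ∈ FlatCA.weakAss B M) : q.comap (algebraMap A B) ∈ FlatCA.weakAss A M := by
  classical
  obtain ⟨m, hm⟩ := WeakAss.mem_weakAss_iff.1 hq
  haveI hqpr : q.IsPrime := hm.1.1
  have hfin : ((q.comap (algebraMap A B)).primesOver B).Finite := Algebra.QuasiFinite.finite_primesOver _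
  obtain ⟨h, hhq, hh⟩ : ∃ h ∈ q, ∀ r : Ideal B, r.IsPrime → r.comap (algebraMap A B) = q.comap (algebraMap A B) →
      r ≠ q → h ∉ r := by
    have hsub : ¬ ((q : Set B) ⊆ ⋃ r ∈ (↑(hfin.toFinset.erase q) : Set (Ideal B)), (r : Set B)) := by
      intro hc
      obtain ⟨r, hr, hqr⟩ := (Ideal.subset_union_prime ⊥ ⊥ fun r hr _ _ =>
        ((hfin.mem_toFinset.1 (Finset.mem_of_mem_erase hr)).1)).1 hc
      obtain ⟨hrpr, hrlie⟩ := hfin.mem_toFinset.1 (Finset.mem_of_mem_erase hr)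
      haveI := hrpr
      refine Finset.ne_of_mem_erase hr (le_antisymm ?_ hqr)
      by_contra hne
      have hlt : q < r := lt_of_le_of_ne hqr (Ne.symm (Finset.ne_of_mem_erase hr))
      have h1 := Ideal.IsIntegral.comap_lt_comap (R := A) hlt
      rw [show r.comap (algebraMap A B) = q.comap (algebraMap A B) from hrlie.over.symm] at h1
      exact lt_irrefl _ h1
    obtain ⟨h, hhq, hh⟩ := Set.not_subset.1 hsub
    refine ⟨h, hhq, fun r hr hrc hrne hhr => hh (Set.mem_iUnion₂.2 ⟨r, ?_, hhr⟩)⟩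
    exact Finset.mem_erase.2 ⟨hrne, hfin.mem_toFinset.2 ⟨hr, ⟨hrc.symm⟩⟩⟩
  obtain ⟨s, hs, n, hn⟩ := WeakAss.exists_mul_pow_mem hm hhq
  refine WeakAss.mem_weakAss_iff.2 ⟨s • m, ⟨⟨inferInstance, fun a ha => ?_⟩, fun p' hp' hp'le => ?_⟩⟩
  · have h1 : algebraMap A B a • s • m = 0 := by rw [algebraMap_smul]; exact WeakAss.mem_annEl.1 ha
    rw [smul_smul] at h1
    exact (hqpr.mem_or_mem (hm.1.2 (WeakAss.mem_annEl.2 h1))).resolve_right hs
  · haveI := hp'.1
    obtain ⟨Q', hQ'ann, hQ'pr, hQ'⟩ := Ideal.exists_ideal_over_prime_of_isIntegral p'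
      (WeakAss.annEl B (s • m)) fun a ha => hp'.2 (WeakAss.mem_annEl.2 (by
        rw [← algebraMap_smul B a (s • m)]; exact WeakAss.mem_annEl.1 (Ideal.mem_comap.1 ha)))
    haveI := hQ'pr
    obtain ⟨Q, hQQ', hQpr, hQ⟩ := Ideal.exists_ideal_over_prime_of_isIntegral (q.comap (algebraMap A B)) Q'
      (hQ' ▸ hp'le)
    have hQq : Q = q := by
      by_contra hne
      have hh' : (s * h ^ n) • m = 0 := WeakAss.mem_annEl.1 hn
      have : h ^ n ∈ Q := hQQ' (hQ'ann (WeakAss.mem_annEl.2 (by rw [smul_smul, mul_comm]; exact hh')))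
      exact hh Q hQpr hQ hne (hQpr.mem_of_pow_mem n this)
    have hmQ' : WeakAss.annEl B m ≤ Q' := fun b hb => hQ'ann (WeakAss.mem_annEl.2 (by
      rw [smul_comm, WeakAss.mem_annEl.1 hb, smul_zero]))
    have hqQ' : q ≤ Q' := hm.2 ⟨hQ'pr, hmQ'⟩ (hQq ▸ hQQ')
    rw [← hQ']
    exact Ideal.comap_mono hqQ'

variable {X S : Scheme.{u}} (f : X ⟶ S) {F : X.Modules}

theorem isWeakAssPoint_pushforward_finite [IsFinite f] (hF : Coh.IsQCoh F) (x : X)
    (hx : Curv2.IsWeakAssPoint F x) : Curv2.IsWeakAssPoint ((Scheme.Modules.pushforward f).obj F) (f x) := by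
  obtain ⟨V, hV, hsV, -⟩ := exists_isAffineOpen_mem_and_subset (x := f x) (U := ⊤) trivial
  have hW : IsAffineOpen (f ⁻¹ᵁ V) := hV.preimage f
  rw [isWeakAssPoint_iff_sections (QCoh.isQCoh_pushforward f hF) hV hsV]
  have hq := (isWeakAssPoint_iff_sections hF hW (show x ∈ f ⁻¹ᵁ V from hsV)).1 hx
  letI : Algebra Γ(S, V) Γ(X, f ⁻¹ᵁ V) := (f.app V).hom.toAlgebra
  haveI : Module.Finite Γ(S, V) Γ(X, f ⁻¹ᵁ V) := f.finite_app V hV
  letI : Module Γ(S, V) Γ(F, f ⁻¹ᵁ V) := Module.compHom _ (f.app V).hom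
  haveI : IsScalarTower Γ(S, V) Γ(X, f ⁻¹ᵁ V) Γ(F, f ⁻¹ᵁ V) :=
    IsScalarTower.of_algebraMap_smul fun _ _ => rfl
  have h1 := comap_mem_weakAss_of_finite (A := Γ(S, V)) hq
  have h2 : ((hW.primeIdealOf ⟨x, hsV⟩).asIdeal).comap (algebraMap Γ(S, V) Γ(X, f ⁻¹ᵁ V)) =
      (hV.primeIdealOf ⟨f x, hsV⟩).asIdeal := by
    rw [← IsAffineOpen.comap_primeIdealOf_appLE (f := f) V hV (f ⁻¹ᵁ V) hW le_rfl hsV]
    rw [← Scheme.Hom.app_eq_appLE]
    rfl
  rw [h2] at h1
  exact h1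

theorem not_isWeakAssPoint_pushforward_of_notMem_range [QuasiCompact f] [QuasiSeparated f] (hF : Coh.IsQCoh F)
    (s : S) (hs : s ∉ Set.range f.base) : ¬ Curv2.IsWeakAssPoint ((Scheme.Modules.pushforward f).obj F) s := by
  classical
  intro hass
  obtain ⟨V, hV, hsV, -⟩ := exists_isAffineOpen_mem_and_subset (x := s) (U := ⊤) trivial
  obtain ⟨n, hn⟩ := WeakAss.mem_weakAss_iff.1
    ((isWeakAssPoint_iff_sections (QCoh.isQCoh_pushforward f hF) hV hsV).1 hass)
  set P := (hV.primeIdealOf ⟨s, hsV⟩).asIdeal with hP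
  let n' : Γ(F, f ⁻¹ᵁ V) := n
  have hcov : ∀ x : (f ⁻¹ᵁ V : X.Opens), ∃ W : X.Opens, IsAffineOpen W ∧ x.1 ∈ W ∧ W ≤ f ⁻¹ᵁ V := fun x => by
    obtain ⟨W, h1, h2, h3⟩ := exists_isAffineOpen_mem_and_subset (x := x.1) (U := f ⁻¹ᵁ V) x.2
    exact ⟨W, h1, h2, h3⟩
  choose U hU hxU hUV using hcov
  have key : ∀ x : (f ⁻¹ᵁ V : X.Opens), ∃ t, t ∉ P ∧
      F.presheaf.map (homOfLE (hUV x)).op (f.app V t • n') = 0 := by
    intro x
    let φ : Γ(S, V) →+* Γ(X, U x) := (f.appLE V (U x) (hUV x)).hom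
    let m : Γ(F, U x) := F.presheaf.map (homOfLE (hUV x)).op n'
    have hres : ∀ r : Γ(S, V), F.presheaf.map (homOfLE (hUV x)).op (f.app V r • n') = φ r • m := fun r => by
      rw [Scheme.Modules.map_smul]
      congr 1
    by_cases hd : ∃ t, t ∉ P ∧ φ t • m = 0
    · obtain ⟨t, ht, ht'⟩ := hd
      exact ⟨t, ht, by rw [hres]; exact ht'⟩
    · exfalso
      push Not at hd
      have hdisj : Disjoint (WeakAss.annEl Γ(X, U x) m : Set Γ(X, U x)) (P.primeCompl.map φ : Set Γ(X, U x)) := by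
        rw [Set.disjoint_left]
        rintro _ hb ⟨t, ht, rfl⟩
        exact hd t ht (WeakAss.mem_annEl.1 hb)
      obtain ⟨q, hqpr, hqann, hqd⟩ := Ideal.exists_le_prime_disjoint _ _ hdisj
      haveI := hqpr
      have hcle : q.comap φ ≤ P := fun r hr => by
        by_contra hrP
        exact Set.disjoint_left.1 hqd hr ⟨r, hrP, rfl⟩
      have hannle : WeakAss.annEl Γ(S, V) n ≤ q.comap φ := fun r hr => hqann (WeakAss.mem_annEl.2 (by
        rw [← hres]
        have h0 : f.app V r • n' = 0 := (WeakAss.mem_annEl (R := Γ(S, V)) (m := n)).1 hr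
        rw [h0, map_zero]))
      have heq : q.comap φ = P := le_antisymm hcle (hn.2 ⟨inferInstance, hannle⟩ hcle)
      obtain ⟨y, hy, hyq⟩ := QCoh.exists_point (hU x) ⟨q, hqpr⟩
      refine hs ⟨y, ?_⟩
      have h2 : hV.primeIdealOf ⟨f y, hUV x hy⟩ = hV.primeIdealOf ⟨s, hsV⟩ := by
        rw [← IsAffineOpen.comap_primeIdealOf_appLE (f := f) V hV (U x) (hU x) (hUV x) hy, hyq]
        exact PrimeSpectrum.ext heq
      have h3 := congrArg hV.fromSpec h2
      rwa [hV.fromSpec_primeIdealOf, hV.fromSpec_primeIdealOf] at h3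
  choose t ht htn using key
  obtain ⟨T, hT⟩ := (f.isCompact_preimage hV.isCompact).elim_finite_subcover
    (fun x : (f ⁻¹ᵁ V : X.Opens) => (U x : Set X)) (fun x => (U x).2)
    fun x hx => Set.mem_iUnion.2 ⟨⟨x, hx⟩, hxU ⟨x, hx⟩⟩
  have hprod : ∏ x ∈ T, t x ∉ P := fun hmem => by
    obtain ⟨x, -, hx⟩ := Ideal.IsPrime.prod_mem_iff.1 hmem
    exact ht x hx
  refine hprod (hn.1.2 (WeakAss.mem_annEl.2 ?_))
  show f.app V (∏ x ∈ T, t x) • n' = 0
  refine QCoh.eq_zero_of_locally (f ⁻¹ᵁ V) _ fun y hy => ?_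
  obtain ⟨x, hxT, hyx⟩ := Set.mem_iUnion₂.1 (hT hy)
  refine ⟨U x, homOfLE (hUV x), hyx, ?_⟩
  rw [← Finset.mul_prod_erase T t hxT, map_mul, mul_comm, mul_smul, Scheme.Modules.map_smul, htn, smul_zero]

end Groth.Agent.AssPtX
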